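import Mathlib.RingTheory.MvPolynomial.Homogeneous
import Mathlib.Algebra.Polynomial.BigOperators
import Mathlib.Algebra.Polynomial.Eval.Degree
import Mathlib.RingTheory.AdjoinRoot
import Mathlib.Tactic.Ring

/-! Leading coefficient of a polynomial after a twisted translation of the variables. -/

namespace Groth.Agent.TwistTranslate

universe u v

variable {k : Type u} [Field k] {K : Type v} [Field K] [Algebra k K] {r : ℕ}

/-- the translation `x_i ↦ x_i + g_i T^M` -/
noncomputable def tr (g : Fin r → K) (M : ℕ) :
    MvPolynomial (Fin r) k →ₐ[k] Polynomial (MvPolynomial (Fin r) K) :=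
  MvPolynomial.aeval (fun i : Fin r => Polynomial.C (MvPolynomial.X i) +
    Polynomial.C (MvPolynomial.C (g i)) * Polynomial.X ^ M)

theorem tr_bound (g : Fin r → K) (M D : ℕ) (hM : 0 < M) (p : MvPolynomial (Fin r) k) (hp : p.totalDegree ≤ D) :
    (tr g M p).natDegree ≤ D * M ∧
      (tr g M p).coeff (D * M) = MvPolynomial.C (MvPolynomial.aeval g (MvPolynomial.homogeneousComponent D p)) := by
  classical
  have hmono : ∀ e ∈ p.support, Finsupp.degree e ≤ D ∧
      (tr g M (MvPolynomial.monomial e (p.coeff e))).natDegree ≤ Finsupp.degree e * M ∧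
      (tr g M (MvPolynomial.monomial e (p.coeff e))).coeff (Finsupp.degree e * M) =
        MvPolynomial.C (MvPolynomial.aeval g (MvPolynomial.monomial e (p.coeff e))) := by
    intro e he
    refine ⟨le_trans (MvPolynomial.le_totalDegree he) hp, ?_⟩
    have hfac : ∀ i, (Polynomial.C (MvPolynomial.X i) +
        Polynomial.C (MvPolynomial.C (g i)) * Polynomial.X ^ M : Polynomial (MvPolynomial (Fin r) K)).natDegree ≤ M ∧
        (Polynomial.C (MvPolynomial.X i) +
        Polynomial.C (MvPolynomial.C (g i)) * Polynomial.X ^ M : Polynomial (MvPolynomial (Fin r) K)).coeff M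
          = MvPolynomial.C (g i) := by
      intro i
      constructor
      · exact Polynomial.natDegree_add_le_of_degree_le (by simp) (Polynomial.natDegree_C_mul_X_pow_le _ _)
      · simp [Polynomial.coeff_C, hM.ne']
    set q : Fin r → Polynomial (MvPolynomial (Fin r) K) := fun i => Polynomial.C (MvPolynomial.X i) +
        Polynomial.C (MvPolynomial.C (g i)) * Polynomial.X ^ M with hq
    have hprod : tr g M (MvPolynomial.monomial e (p.coeff e)) =
        Polynomial.C (MvPolynomial.C (algebraMap k K (p.coeff e))) * ∏ i ∈ e.support, q i ^ e i := by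
      rw [tr, MvPolynomial.aeval_monomial]
      rfl
    have hdeg : (∏ i ∈ e.support, q i ^ e i).natDegree ≤ Finsupp.degree e * M := by
      refine le_trans (Polynomial.natDegree_prod_le _ _) ?_
      rw [Finsupp.degree_apply, Finset.sum_mul]
      exact Finset.sum_le_sum fun i _ => le_trans Polynomial.natDegree_pow_le (Nat.mul_le_mul_left _ (hfac i).1)
    constructor
    · rw [hprod]
      exact le_trans (Polynomial.natDegree_C_mul_le _ _) hdeg
    · rw [hprod, Polynomial.coeff_C_mul]
      have key : ∀ s : Finset (Fin r), (∏ i ∈ s, q i ^ e i).coeff ((∑ i ∈ s, e i) * M) =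
          ∏ i ∈ s, MvPolynomial.C (g i) ^ e i ∧ (∏ i ∈ s, q i ^ e i).natDegree ≤ (∑ i ∈ s, e i) * M := by
        intro s
        induction s using Finset.induction_on with
        | empty => simp
        | insert a s ha ih =>
          rw [Finset.prod_insert ha, Finset.prod_insert ha, Finset.sum_insert ha, add_mul]
          have hd : (q a ^ e a).natDegree ≤ e a * M :=
            le_trans Polynomial.natDegree_pow_le (Nat.mul_le_mul_left _ (hfac a).1)
          constructor
          · rw [Polynomial.coeff_mul_add_eq_of_natDegree_le hd ih.2, ih.1,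
              Polynomial.coeff_pow_of_natDegree_le (hfac a).1, (hfac a).2]
          · exact le_trans Polynomial.natDegree_mul_le (add_le_add hd ih.2)
      rw [Finsupp.degree_apply, (key e.support).1, MvPolynomial.aeval_monomial, Finsupp.prod, map_mul, map_prod]
      simp only [map_pow]
  constructor
  · conv_lhs => rw [MvPolynomial.as_sum p, map_sum]
    exact Polynomial.natDegree_sum_le_of_forall_le _ _ fun e he =>
      le_trans (hmono e he).2.1 (Nat.mul_le_mul_right M (hmono e he).1)
  · conv_lhs => rw [MvPolynomial.as_sum p, map_sum, Polynomial.finsetSum_coeff]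
    rw [MvPolynomial.homogeneousComponent_apply, map_sum, map_sum, Finset.sum_filter]
    refine Finset.sum_congr rfl fun e he => ?_
    by_cases h : Finsupp.degree e = D
    · rw [if_pos h, ← h, (hmono e he).2.2]
    · rw [if_neg h]
      refine Polynomial.coeff_eq_zero_of_natDegree_lt (lt_of_le_of_lt (hmono e he).2.1 ?_)
      exact Nat.mul_lt_mul_of_pos_right (lt_of_le_of_ne (hmono e he).1 h) hM

theorem main (f : Polynomial (MvPolynomial (Fin r) k)) (hf : f ≠ 0) :
    ∃ h : MvPolynomial (Fin r) k, h ≠ 0 ∧ ∃ D J : ℕ, ((D = 0 ∧ J = 0) → f = Polynomial.C (f.coeff 0)) ∧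
      ∀ M : ℕ, f.natDegree < M → ∀ (K : Type v) [Field K] [Algebra k K] (g : Fin r → K), MvPolynomial.aeval g h ≠ 0 →
        (Polynomial.eval₂ (tr g M).toRingHom Polynomial.X f).natDegree = D * M + J ∧
        (Polynomial.eval₂ (tr g M).toRingHom Polynomial.X f).leadingCoeff = MvPolynomial.C (MvPolynomial.aeval g h) := by
  classical
  have hne : f.support.Nonempty := Polynomial.support_nonempty.2 hf
  obtain ⟨j0, hj0, hD⟩ := Finset.exists_mem_eq_sup f.support hne fun j => (f.coeff j).totalDegree
  set D := f.support.sup fun j => (f.coeff j).totalDegree with hDdef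
  have hTne : (f.support.filter fun j => (f.coeff j).totalDegree = D).Nonempty :=
    ⟨j0, Finset.mem_filter.2 ⟨hj0, hD.symm⟩⟩
  set J := (f.support.filter fun j => (f.coeff j).totalDegree = D).max' hTne with hJdef
  obtain ⟨hJs, hJD⟩ := Finset.mem_filter.1 (Finset.max'_mem _ hTne)
  rw [← hJdef] at hJs hJD
  have hle : ∀ j ∈ f.support, (f.coeff j).totalDegree ≤ D := fun j hj => Finset.le_sup (f := fun j => (f.coeff j).totalDegree) hj
  have hmax : ∀ j ∈ f.support, j ≠ J → (f.coeff j).totalDegree = D → j < J := fun j hj hne' hjD =>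
    lt_of_le_of_ne (Finset.le_max' _ j (Finset.mem_filter.2 ⟨hj, hjD⟩)) hne'
  refine ⟨MvPolynomial.homogeneousComponent D (f.coeff J), ?_, D, J, ?_, ?_⟩
  · obtain ⟨e, he, hee⟩ := Finset.exists_mem_eq_sup (f.coeff J).support
      (MvPolynomial.support_nonempty.2 (Polynomial.mem_support_iff.1 hJs)) fun e => e.sum fun _ x => x
    intro h0
    have h1 := congrArg (MvPolynomial.coeff e) h0
    rw [MvPolynomial.coeff_homogeneousComponent, MvPolynomial.coeff_zero, if_pos] at h1
    · exact MvPolynomial.mem_support_iff.1 he h1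
    · rw [← hJD, Finsupp.degree_apply]
      exact hee.symm
  · rintro ⟨h0, hJ0⟩
    ext1 n
    rcases Nat.eq_zero_or_pos n with rfl | hn
    · simp
    · rw [Polynomial.coeff_C, if_neg hn.ne']
      by_contra hne'
      have hmem : n ∈ f.support := Polynomial.mem_support_iff.2 hne'
      have := hmax n hmem (by omega) (by have := hle n hmem; omega)
      omega
  intro M hM K _ _ g hg
  have hM0 : 0 < M := lt_of_le_of_lt (Nat.zero_le _) hM
  have hjle : ∀ j ∈ f.support, j ≤ f.natDegree := fun j hj => Polynomial.le_natDegree_of_mem_supp j hj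
  have hlow : ∀ j ∈ f.support, j ≠ J → (tr g M (f.coeff j) * Polynomial.X ^ j).natDegree < D * M + J := by
    intro j hj hjne
    refine lt_of_le_of_lt (le_trans Polynomial.natDegree_mul_le (add_le_add
      (tr_bound g M (f.coeff j).totalDegree hM0 _ le_rfl).1 (Polynomial.natDegree_X_pow_le j))) ?_
    rcases (hle j hj).lt_or_eq with h | h
    · have : ((f.coeff j).totalDegree + 1) * M ≤ D * M := Nat.mul_le_mul_right M h
      rw [add_mul, one_mul] at this
      have := hjle j hj
      omega
    · rw [h]
      have := hmax j hj hjne h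
      omega
  have hsum : Polynomial.eval₂ (tr g M).toRingHom Polynomial.X f =
      ∑ j ∈ f.support, tr g M (f.coeff j) * Polynomial.X ^ j := by
    rw [Polynomial.eval₂_eq_sum, Polynomial.sum_def]
    rfl
  have hcoeff : (Polynomial.eval₂ (tr g M).toRingHom Polynomial.X f).coeff (D * M + J) =
      MvPolynomial.C (MvPolynomial.aeval g (MvPolynomial.homogeneousComponent D (f.coeff J))) := by
    rw [hsum, Polynomial.finsetSum_coeff, Finset.sum_eq_single J]
    · rw [Polynomial.coeff_mul_X_pow, (tr_bound g M D hM0 _ hJD.le).2]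
    · exact fun j hj hjne => Polynomial.coeff_eq_zero_of_natDegree_lt (hlow j hj hjne)
    · exact fun h => absurd hJs h
  have hdeg : (Polynomial.eval₂ (tr g M).toRingHom Polynomial.X f).natDegree = D * M + J := by
    refine le_antisymm ?_ (Polynomial.le_natDegree_of_ne_zero ?_)
    · rw [hsum]
      refine Polynomial.natDegree_sum_le_of_forall_le _ _ fun j hj => ?_
      by_cases h : j = J
      · subst h
        exact le_trans Polynomial.natDegree_mul_le (add_le_add (tr_bound g M D hM0 _ hJD.le).1 (Polynomial.natDegree_X_pow_le _))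
      · exact (hlow j hj h).le
    · rw [hcoeff]
      intro h
      exact hg (MvPolynomial.C_injective _ _ (h.trans (map_zero _).symm))
  exact ⟨hdeg, by rw [Polynomial.leadingCoeff, hdeg, hcoeff]⟩

theorem finite_injective {A : Type u} [CommRing A] [IsDomain A] (F : Polynomial A) (hu : IsUnit F.leadingCoeff)
    (hd : F.natDegree ≠ 0) :
    Module.Finite A (Polynomial A ⧸ Ideal.span {F}) ∧
      Function.Injective ((Ideal.Quotient.mk (Ideal.span {F})).comp (algebraMap A (Polynomial A))) := by
  obtain ⟨w, hw⟩ := hu
  have hG : (Polynomial.C (↑w⁻¹ : A) * F).Monic := by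
    apply Polynomial.monic_C_mul_of_mul_leadingCoeff_eq_one
    rw [← hw, Units.inv_mul]
  have hspan : Ideal.span {Polynomial.C (↑w⁻¹ : A) * F} = Ideal.span {F} :=
    Ideal.span_singleton_mul_left_unit (Polynomial.isUnit_C.2 (Units.isUnit _)) F
  refine ⟨hspan ▸ hG.finite_quotient, ?_⟩
  rw [injective_iff_map_eq_zero]
  intro a ha
  by_contra hne
  rw [RingHom.comp_apply, Ideal.Quotient.eq_zero_iff_mem, Ideal.mem_span_singleton] at ha
  have := Polynomial.natDegree_le_of_dvd ha (fun h => hne (Polynomial.C_eq_zero.1 h))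
  change F.natDegree ≤ (Polynomial.C a).natDegree at this
  rw [Polynomial.natDegree_C] at this
  exact hd (Nat.le_zero.1 this)

end Groth.Agent.TwistTranslate
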